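import Cfsg.Agent.HSRecog.CertRel
import Cfsg.Agent.HSRecog.Cert1.Cert

/-!
The bound for the candidate number 1 of the closing element.
-/

set_option autoImplicit false
set_option maxRecDepth 100000
set_option Elab.async false

namespace Cfsg.Agent.HSRecog.Cert1

open Cfsg.Agent.DCoset

theorem act_ok : HSRecog.actOK tab := by
  unfold HSRecog.actOK
  decide +kernel

theorem tab_acts : Acts pr tab lq bpt := acts rfl act_ok tab_act_lt (by decide +kernel)

theorem chain_prod : ((List.range tab.k).map (cover.chain 0).size).prod = 10752 := by decide +kernel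

theorem low : 5376 < Nat.card MM :=
  card_MM_lt tab_acts (cover.chain 0) chain_prod
    (fun l a hl ha => valid.chain_gen 0 l a valid.live_zero.1 hl ha)
    (fun l m hl hm => valid.chain_pt 0 l m valid.live_zero.1 hl hm)

/-- The model. -/
noncomputable def model : QModel MM :=
  tab_acts.toQModel (tab_acts.faithful (cover.chain 0) card_MM_le chain_prod
    (fun l a hl ha => valid.chain_gen 0 l a valid.live_zero.1 hl ha)
    (fun l m hl hm => valid.chain_pt 0 l m valid.live_zero.1 hl hm))

theorem shape_ok : Shape tab rules 1 where
  two := rfl
  inv := by decide +kernel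
  mul := by decide +kernel
  nrule := rfl
  nrel := rfl
  rule := by decide +kernel
  rel := by decide +kernel

/-- The bound. -/
theorem bound {H : Type*} [Group H] [Finite H] {c d f r h : H} (hR : HRel c d f r h)
    (hloop : loopEl d h = h * bEl c d f r 1)
    (hg : Subgroup.closure (genSet c d f r h) = ⊤) :
    (Subgroup.closure ({c, d, f, r} : Set H)).index ≤ 1 ∧ Nat.card H ≤ 10752 * 1 :=
  bound_of_cert (P := model) low rfl rfl shape_ok steps_ok node_src valid idx_sum hR hloop hg

end Cfsg.Agent.HSRecog.Cert1
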