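import Cfsg.Agent.HSRecog.Cert1.RuleData

/-! Generated by tools/dcoset/emit.py: transversal and stabilisers. -/

set_option Elab.async false

namespace Cfsg.Agent.HSRecog.Cert1

open Cfsg.Agent.DCoset Cfsg.Agent.CosetCert

def liveS : Store := (.leaf 0x0)

noncomputable def live : Nat → Nat := get16 liveS

def liveIdxS : Store := (.leaf 0x10001000100010000)

noncomputable def liveIdx : Nat → Nat := get16 liveIdxS

def trS : Store := (.node 14 (.node 7 (.node 3 (.node 1 (.leaf 0x0) (.node 2 (.leaf 0x20001) (.leaf 0x30001))) (.node 5 (.node 4 (.leaf 0x20002) (.leaf 0x2020002)) (.node 6 (.leaf 0x4020002) (.leaf 0x30002)))) (.node 10 (.node 8 (.leaf 0x3030002) (.node 9 (.leaf 0x4030002) (.leaf 0x200020003))) (.node 12 (.node 11 (.leaf 0x300020003) (.leaf 0x400020003)) (.node 13 (.leaf 0x500020003) (.leaf 0x200030003))))) (.node 21 (.node 17 (.node 15 (.leaf 0x300030003) (.node 16 (.leaf 0x400030003) (.leaf 0x500030003))) (.node 19 (.node 18 (.leaf 0x200020004) (.leaf 0x40200020004)) (.node 20 (.leaf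 0x50200020004) (.leaf 0x30300020004)))) (.node 24 (.node 22 (.leaf 0x40300020004) (.node 23 (.leaf 0x30400020004) (.leaf 0x20500020004))) (.node 26 (.node 25 (.leaf 0x30500020004) (.leaf 0x300030004)) (.node 27 (.leaf 0x20400030004) (.leaf 0x20500030004))))))

def schDS : Store := (.node 1 (.leaf 0x1800180009001a001800120016000900090006000f0006000b001b00070007000f000600100009001a000800080014001600140013000600190019000a0015000a00060018000d000d000c000b0003001800170004000400030003000c0016001000050005000d000d001500140003000a000a0011001300120003000f0011001100080002000700040005000f000f000200080002000500020010001000100010000f000e000d0002000200010001000400080007000b000b00040005000100010008000c000c000b000c000b000a000900010001000700070008000700000006000600050004000500000004000300030000000000000002000100000000) (.leaf 0x19001900170010001500140014001200180011000f001900130013001b0017001b001a0014000e000e00130011001a000d000c001200120017001b0019000c00130016001600160014000e0011000b001700170015000a000d001b001200150015000e000e00160019000a001b001b0018001200090017000e001a001a001a0009001300150011))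

noncomputable def schD : Nat → Nat := get16 schDS

def schUS_1 : Store := (.node 12 (.node 6 (.node 3 (.node 1 (.leaf 0x1) (.node 2 (.leaf 0x10001) (.leaf 0x0))) (.node 4 (.leaf 0x0) (.node 5 (.leaf 0x60001) (.leaf 0x70001)))) (.node 9 (.node 7 (.leaf 0x80001) (.node 8 (.leaf 0x0) (.leaf 0x20001))) (.node 10 (.leaf 0x0) (.node 11 (.leaf 0x0) (.leaf 0x0))))) (.node 18 (.node 15 (.node 13 (.leaf 0x70001) (.node 14 (.leaf 0x807030003) (.leaf 0x0))) (.node 16 (.leaf 0x304030003) (.node 17 (.leaf 0x0) (.leaf 0x0)))) (.node 21 (.node 19 (.leaf 0x0) (.node 20 (.leaf 0x70001) (.leaf 0x7050002))) (.node 22 (.leaf 0x20001) (.node 23 (.leaf 0x0) (.leaf 0x0))))))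

def schUS_2 : Store := (.node 36 (.node 30 (.node 27 (.node 25 (.leaf 0x0) (.node 26 (.leaf 0x0) (.leaf 0x0))) (.node 28 (.leaf 0x20807030004) (.node 29 (.leaf 0x60001) (.leaf 0x2060002)))) (.node 33 (.node 31 (.leaf 0x70001) (.node 32 (.leaf 0x0) (.leaf 0x60001))) (.node 34 (.leaf 0x60001) (.node 35 (.leaf 0x806050003) (.leaf 0x0))))) (.node 42 (.node 39 (.node 37 (.leaf 0x20001) (.node 38 (.leaf 0x60001) (.leaf 0x0))) (.node 40 (.leaf 0x70001) (.node 41 (.leaf 0x0) (.leaf 0x807030003)))) (.node 45 (.node 43 (.leaf 0x304030003) (.node 44 (.leaf 0x0) (.leaf 0x0))) (.node 47 (.node 46 (.leaf 0x0) (.leaf 0x0)) (.node 48 (.leaf 0x0) (.leaf 0x30405030004))))))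

def schUS_3 : Store := (.node 24 schUS_1 schUS_2)

def schUS_4 : Store := (.node 61 (.node 55 (.node 52 (.node 50 (.leaf 0x60001) (.node 51 (.leaf 0x30406050004) (.leaf 0x0))) (.node 53 (.leaf 0x70001) (.node 54 (.leaf 0x60001) (.leaf 0x60001)))) (.node 58 (.node 56 (.leaf 0x5060002) (.node 57 (.leaf 0x0) (.leaf 0x304030003))) (.node 59 (.leaf 0x0) (.node 60 (.leaf 0x60001) (.leaf 0x70001))))) (.node 67 (.node 64 (.node 62 (.leaf 0x0) (.node 63 (.leaf 0x50001) (.leaf 0x0))) (.node 65 (.leaf 0x40001) (.node 66 (.leaf 0x201070003) (.leaf 0x0)))) (.node 70 (.node 68 (.leaf 0x0) (.node 69 (.leaf 0x0) (.leaf 0x4000806050005))) (.node 71 (.leaf 0x1) (.node 72 (.leaf 0x10001) (.leaf 0x0))))))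

def schUS_5 : Store := (.node 85 (.node 79 (.node 76 (.node 74 (.leaf 0x0) (.node 75 (.leaf 0x0) (.leaf 0x201070003))) (.node 77 (.leaf 0x201080003) (.node 78 (.leaf 0x20001) (.leaf 0x0)))) (.node 82 (.node 80 (.leaf 0x201070003) (.node 81 (.leaf 0x0) (.leaf 0x0))) (.node 83 (.leaf 0x0) (.node 84 (.leaf 0x20807030004) (.leaf 0x4070002))))) (.node 91 (.node 88 (.node 86 (.leaf 0x70001) (.node 87 (.leaf 0x0) (.leaf 0x0))) (.node 89 (.leaf 0x0) (.node 90 (.leaf 0x0) (.leaf 0x20807030004)))) (.node 94 (.node 92 (.leaf 0x1) (.node 93 (.leaf 0x10001) (.leaf 0x40200060004))) (.node 96 (.node 95 (.leaf 0x0) (.leaf 0x40200060004)) (.node 97 (.leaf 0x40200060004) (.leaf 0x401080003))))))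

def schUS_6 : Store := (.node 73 schUS_4 schUS_5)

def schUS_7 : Store := (.node 49 schUS_3 schUS_6)

def schUS_8 : Store := (.node 110 (.node 104 (.node 101 (.node 99 (.leaf 0x0) (.node 100 (.leaf 0x30402030004) (.leaf 0x0))) (.node 102 (.leaf 0x40200060004) (.node 103 (.leaf 0x40200060004) (.leaf 0x40200060004)))) (.node 107 (.node 105 (.leaf 0x5060002) (.node 106 (.leaf 0x304030003) (.leaf 0x0))) (.node 108 (.leaf 0x0) (.node 109 (.leaf 0x40200060004) (.leaf 0x0))))) (.node 116 (.node 113 (.node 111 (.leaf 0x0) (.node 112 (.leaf 0x30405030004) (.leaf 0x3040203070005))) (.node 114 (.leaf 0x70001) (.node 115 (.leaf 0x0) (.leaf 0x40200060004)))) (.node 119 (.node 117 (.leaf 0x0) (.node 118 (.leaf 0x0) (.leaf 0x30405030004))) (.node 120 (.leaf 0x40001) (.node 121 (.leaf 0x0) (.leaf 0x50207030004))))))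

def schUS_9 : Store := (.node 134 (.node 128 (.node 125 (.node 123 (.leaf 0x50207030004) (.node 124 (.leaf 0x50207030004) (.leaf 0x40200060004))) (.node 126 (.leaf 0x4000806050005) (.node 127 (.leaf 0x50207030004) (.leaf 0x30403070004)))) (.node 131 (.node 129 (.leaf 0x3040206050005) (.node 130 (.leaf 0x0) (.leaf 0x0))) (.node 132 (.leaf 0x0) (.node 133 (.leaf 0x304080003) (.leaf 0x40200060004))))) (.node 140 (.node 137 (.node 135 (.leaf 0x400060003) (.node 136 (.leaf 0x201070003) (.leaf 0x0))) (.node 138 (.leaf 0x0) (.node 139 (.leaf 0x0) (.leaf 0x4010807050005)))) (.node 143 (.node 141 (.leaf 0x60003) (.node 142 (.leaf 0x2060002) (.leaf 0x0))) (.node 145 (.node 144 (.leaf 0x40001) (.leaf 0x0)) (.node 146 (.leaf 0x201070003) (.leaf 0x7050002))))))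

def schUS_10 : Store := (.node 122 schUS_8 schUS_9)

def schUS_11 : Store := (.node 159 (.node 153 (.node 150 (.node 148 (.leaf 0x1) (.node 149 (.leaf 0x10001) (.leaf 0x0))) (.node 151 (.leaf 0x201070003) (.node 152 (.leaf 0x201070003) (.leaf 0x0)))) (.node 156 (.node 154 (.leaf 0x8070002) (.node 155 (.leaf 0x40201070004) (.leaf 0x70002))) (.node 157 (.leaf 0x0) (.node 158 (.leaf 0x3040206050005) (.leaf 0x201070003))))) (.node 165 (.node 162 (.node 160 (.leaf 0x0) (.node 161 (.leaf 0x40200050004) (.leaf 0x1060002))) (.node 163 (.leaf 0x400060003) (.node 164 (.leaf 0x0) (.leaf 0x0)))) (.node 168 (.node 166 (.leaf 0x40001) (.node 167 (.leaf 0x201070003) (.leaf 0x40105030004))) (.node 169 (.leaf 0x50205060004) (.node 170 (.leaf 0x3040206050005) (.leaf 0x0))))))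

def schUS_12 : Store := (.node 183 (.node 177 (.node 174 (.node 172 (.leaf 0x201070003) (.node 173 (.leaf 0x201070003) (.leaf 0x3040206050005))) (.node 175 (.leaf 0x402000803070006) (.node 176 (.leaf 0x30402030004) (.leaf 0x0)))) (.node 180 (.node 178 (.leaf 0x40001) (.node 179 (.leaf 0x401070003) (.leaf 0x401070003))) (.node 181 (.leaf 0x40001) (.node 182 (.leaf 0x203070003) (.leaf 0x40201070004))))) (.node 189 (.node 186 (.node 184 (.leaf 0x201070003) (.node 185 (.leaf 0x200060003) (.leaf 0x0))) (.node 187 (.leaf 0x201070003) (.node 188 (.leaf 0x40200060004) (.leaf 0x208030003)))) (.node 192 (.node 190 (.leaf 0x4070002) (.node 191 (.leaf 0x70003) (.leaf 0x40200060004))) (.node 194 (.node 193 (.leaf 0x0) (.leaf 0x40200060004)) (.node 195 (.leaf 0x200060003) (.leaf 0x40206030004))))))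

def schUS_13 : Store := (.node 171 schUS_11 schUS_12)

def schUS_14 : Store := (.node 147 schUS_10 schUS_13)

def schUS : Store := (.node 98 schUS_7 schUS_14)

def uWS : Store := (.node 4 (.node 2 (.node 1 (.leaf 0x1) (.leaf 0x10001)) (.node 3 (.leaf 0x30000020004) (.leaf 0x30303060202020007))) (.node 6 (.node 5 (.leaf 0x503000002040006) (.leaf 0x503030306020202040009)) (.node 7 (.leaf 0x40001) (.node 8 (.leaf 0x50001) (.leaf 0x60001)))))

def ruleOfS : Store := (.leaf 0xf0006000e0005000d0004000c0015000b0014000a0013000900120008000100070000)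

noncomputable def ruleOf : Nat → Nat := get16 ruleOfS

def nStabS : Store := (.leaf 0x5)

noncomputable def nStab : Nat → Nat := get16 nStabS

def stabOffS : Store := (.leaf 0x0)

noncomputable def stabOff : Nat → Nat := get16 stabOffS

def stabFS : Store := (.leaf 0x8b0002000300010000)

noncomputable def stabF : Nat → Nat := get16 stabFS

def stabWS : Store := (.node 2 (.node 1 (.leaf 0x1) (.leaf 0x20001)) (.node 3 (.leaf 0x60001) (.node 4 (.leaf 0x40001) (.leaf 0x2020603050005))))


end Cfsg.Agent.HSRecog.Cert1
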