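import Cfsg.Agent.HSRecog.Cert1.RuleData

/-! Generated by tools/dcoset/emit.py: step words. -/

set_option Elab.async false

namespace Cfsg.Agent.HSRecog.Cert1

open Cfsg.Agent.DCoset Cfsg.Agent.CosetCert

def argWS_1 : Store := (.node 9 (.node 4 (.node 2 (.node 1 (.leaf 0x1) (.leaf 0x20001)) (.node 3 (.leaf 0x40001) (.leaf 0x60001))) (.node 6 (.node 5 (.leaf 0x20001) (.leaf 0x0)) (.node 7 (.leaf 0x20001) (.node 8 (.leaf 0x0) (.leaf 0x1))))) (.node 13 (.node 11 (.node 10 (.leaf 0x0) (.leaf 0x40001)) (.node 12 (.leaf 0x0) (.leaf 0x20001))) (.node 15 (.node 14 (.leaf 0x0) (.leaf 0x1)) (.node 16 (.leaf 0x0) (.node 17 (.leaf 0x1) (.leaf 0x0))))))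

def argWS_2 : Store := (.node 27 (.node 22 (.node 20 (.node 19 (.leaf 0x60002) (.leaf 0x0)) (.node 21 (.leaf 0x20001) (.leaf 0x0))) (.node 24 (.node 23 (.leaf 0x2060002) (.leaf 0x0)) (.node 25 (.leaf 0x1) (.node 26 (.leaf 0x0) (.leaf 0x40002))))) (.node 32 (.node 29 (.node 28 (.leaf 0x0) (.leaf 0x40002)) (.node 30 (.leaf 0x0) (.node 31 (.leaf 0x4020003) (.leaf 0x0)))) (.node 34 (.node 33 (.leaf 0x60001) (.leaf 0x0)) (.node 35 (.leaf 0x10604020004) (.node 36 (.leaf 0x0) (.leaf 0x20001))))))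

def argWS_3 : Store := (.node 18 argWS_1 argWS_2)

def argWS_4 : Store := (.node 46 (.node 41 (.node 39 (.node 38 (.leaf 0x0) (.leaf 0x2040002)) (.node 40 (.leaf 0x0) (.leaf 0x40001))) (.node 43 (.node 42 (.leaf 0x0) (.leaf 0x4020002)) (.node 44 (.leaf 0x0) (.node 45 (.leaf 0x4020002) (.leaf 0x0))))) (.node 51 (.node 48 (.node 47 (.leaf 0x2040002) (.leaf 0x0)) (.node 49 (.leaf 0x60002) (.node 50 (.leaf 0x0) (.leaf 0x6020003)))) (.node 53 (.node 52 (.leaf 0x0) (.leaf 0x60001)) (.node 54 (.leaf 0x0) (.node 55 (.leaf 0x10001) (.leaf 0x0))))))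

def argWS_5 : Store := (.node 65 (.node 60 (.node 58 (.node 57 (.leaf 0x10001) (.leaf 0x0)) (.node 59 (.leaf 0x1040002) (.leaf 0x0))) (.node 62 (.node 61 (.leaf 0x60002) (.leaf 0x0)) (.node 63 (.leaf 0x6020003) (.node 64 (.leaf 0x0) (.leaf 0x10604020004))))) (.node 70 (.node 67 (.node 66 (.leaf 0x0) (.leaf 0x1050306030005)) (.node 68 (.leaf 0x0) (.node 69 (.leaf 0x2040002) (.leaf 0x0)))) (.node 72 (.node 71 (.leaf 0x303040003) (.leaf 0x0)) (.node 73 (.leaf 0x6020003) (.node 74 (.leaf 0x0) (.leaf 0x200020006020402060303000b))))))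

def argWS_6 : Store := (.node 56 argWS_4 argWS_5)

def argWS_7 : Store := (.node 37 argWS_3 argWS_6)

def argWS_8 : Store := (.node 84 (.node 79 (.node 77 (.node 76 (.leaf 0x0) (.leaf 0x303040003)) (.node 78 (.leaf 0x0) (.leaf 0x303010306030006))) (.node 81 (.node 80 (.leaf 0x0) (.leaf 0x303010306030006)) (.node 82 (.leaf 0x0) (.node 83 (.leaf 0x60000020002060202060304000c) (.leaf 0x0))))) (.node 88 (.node 86 (.node 85 (.leaf 0x200020006020402060303000b) (.leaf 0x0)) (.node 87 (.leaf 0x40300000306040007) (.leaf 0x0))) (.node 90 (.node 89 (.leaf 0x4020002) (.leaf 0x0)) (.node 91 (.leaf 0x206050003) (.node 92 (.leaf 0x0) (.leaf 0x1050306030005))))))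

def argWS_9 : Store := (.node 102 (.node 97 (.node 95 (.node 94 (.leaf 0x0) (.leaf 0x1020103050306030008)) (.node 96 (.leaf 0x0) (.leaf 0x6020003))) (.node 99 (.node 98 (.leaf 0x0) (.leaf 0x4000200030604020008)) (.node 100 (.leaf 0x0) (.node 101 (.leaf 0x60001) (.leaf 0x0))))) (.node 107 (.node 104 (.node 103 (.leaf 0x6040003) (.leaf 0x0)) (.node 105 (.leaf 0x206050003) (.node 106 (.leaf 0x0) (.leaf 0x10300030503060007)))) (.node 109 (.node 108 (.leaf 0x0) (.leaf 0x6040003)) (.node 110 (.leaf 0x0) (.node 111 (.leaf 0x6050004) (.leaf 0x0))))))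

def argWS_10 : Store := (.node 93 argWS_8 argWS_9)

def argWS_11 : Store := (.node 121 (.node 116 (.node 114 (.node 113 (.leaf 0x2060002) (.leaf 0x0)) (.node 115 (.leaf 0x50000020002060202060304000c) (.leaf 0x0))) (.node 118 (.node 117 (.leaf 0x1040002) (.leaf 0x0)) (.node 119 (.leaf 0x3010301060005) (.node 120 (.leaf 0x0) (.leaf 0x10300030503060007))))) (.node 126 (.node 123 (.node 122 (.leaf 0x0) (.leaf 0x400030002060402060303000b)) (.node 124 (.leaf 0x0) (.node 125 (.leaf 0x40300000306040007) (.leaf 0x0)))) (.node 128 (.node 127 (.leaf 0x403000006020605030009) (.leaf 0x0)) (.node 129 (.leaf 0x4000200030604020008) (.node 130 (.leaf 0x0) (.leaf 0x3060002000605030008))))))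

def argWS_12 : Store := (.node 140 (.node 135 (.node 133 (.node 132 (.leaf 0x0) (.leaf 0x0)) (.node 134 (.leaf 0x6000301020603030008) (.leaf 0x6000301020603030008))) (.node 137 (.node 136 (.leaf 0x0) (.leaf 0x0)) (.node 138 (.leaf 0x402040003) (.node 139 (.leaf 0x402040003) (.leaf 0x0))))) (.node 145 (.node 142 (.node 141 (.leaf 0x20001) (.leaf 0x0)) (.node 143 (.leaf 0x2000002) (.node 144 (.leaf 0x0) (.leaf 0x20001)))) (.node 147 (.node 146 (.leaf 0x0) (.leaf 0x2020002)) (.node 148 (.leaf 0x0) (.node 149 (.leaf 0x202040003) (.leaf 0x0))))))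

def argWS_13 : Store := (.node 131 argWS_11 argWS_12)

def argWS_14 : Store := (.node 112 argWS_10 argWS_13)

def argWS_15 : Store := (.node 75 argWS_7 argWS_14)

def argWS_16 : Store := (.node 159 (.node 154 (.node 152 (.node 151 (.leaf 0x200020003) (.leaf 0x0)) (.node 153 (.leaf 0x200020003) (.leaf 0x0))) (.node 156 (.node 155 (.leaf 0x2000002) (.leaf 0x0)) (.node 157 (.leaf 0x200040003) (.node 158 (.leaf 0x0) (.leaf 0x20004020004))))) (.node 163 (.node 161 (.node 160 (.leaf 0x0) (.leaf 0x2000402040005)) (.node 162 (.leaf 0x0) (.leaf 0x20002020004))) (.node 165 (.node 164 (.leaf 0x0) (.leaf 0x20002000004)) (.node 166 (.leaf 0x0) (.node 167 (.leaf 0x3040002) (.leaf 0x0))))))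

def argWS_17 : Store := (.node 177 (.node 172 (.node 170 (.node 169 (.leaf 0x0) (.leaf 0x0)) (.node 171 (.leaf 0x300040003) (.leaf 0x0))) (.node 174 (.node 173 (.leaf 0x0) (.leaf 0x3010303050005)) (.node 175 (.leaf 0x300050003) (.node 176 (.leaf 0x0) (.leaf 0xb09080d0004))))) (.node 182 (.node 179 (.node 178 (.leaf 0x0) (.leaf 0x0)) (.node 180 (.leaf 0x2000200020005) (.node 181 (.leaf 0x0) (.leaf 0x0)))) (.node 184 (.node 183 (.leaf 0x4030104030005) (.leaf 0x200020002060006)) (.node 185 (.leaf 0x0) (.node 186 (.leaf 0xb0f0c0a0004) (.leaf 0x0))))))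

def argWS_18 : Store := (.node 168 argWS_16 argWS_17)

def argWS_19 : Store := (.node 196 (.node 191 (.node 189 (.node 188 (.leaf 0x0) (.leaf 0x0)) (.node 190 (.leaf 0x0) (.leaf 0x104020603030006))) (.node 193 (.node 192 (.leaf 0x0) (.leaf 0x0)) (.node 194 (.leaf 0x403000002060305030603000b) (.node 195 (.leaf 0x104020603030006) (.leaf 0x0))))) (.node 201 (.node 198 (.node 197 (.leaf 0x103000002060202060305000b) (.leaf 0x0)) (.node 199 (.leaf 0x104020603030006) (.node 200 (.leaf 0x0) (.leaf 0x2020603050007)))) (.node 203 (.node 202 (.leaf 0x0) (.leaf 0x403000002060305030603000b)) (.node 204 (.leaf 0x0) (.node 205 (.leaf 0x2020603040007) (.leaf 0x0))))))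

def argWS_20 : Store := (.node 215 (.node 210 (.node 208 (.node 207 (.leaf 0x403000002060305030603000b) (.leaf 0x0)) (.node 209 (.leaf 0x103000002060202060305000b) (.leaf 0x0))) (.node 212 (.node 211 (.leaf 0x50102000003060305030603000c) (.leaf 0x0)) (.node 213 (.leaf 0x6030604020006) (.node 214 (.leaf 0x0) (.leaf 0x0))))) (.node 220 (.node 217 (.node 216 (.leaf 0x50102000003060305030603000c) (.leaf 0x0)) (.node 218 (.leaf 0xa0b0002) (.node 219 (.leaf 0x30001) (.leaf 0x0)))) (.node 222 (.node 221 (.leaf 0x0) (.leaf 0x3000002060005)) (.node 223 (.leaf 0x0) (.node 224 (.leaf 0xc090f0a0e0005) (.leaf 0x30001))))))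

def argWS_21 : Store := (.node 206 argWS_19 argWS_20)

def argWS_22 : Store := (.node 187 argWS_18 argWS_21)

def argWS_23 : Store := (.node 234 (.node 229 (.node 227 (.node 226 (.leaf 0x0) (.leaf 0x0)) (.node 228 (.leaf 0x50002) (.leaf 0x0))) (.node 231 (.node 230 (.leaf 0x0) (.leaf 0x403000002060006)) (.node 232 (.leaf 0x20603030004) (.node 233 (.leaf 0x0) (.leaf 0xc090c0a0004))))) (.node 239 (.node 236 (.node 235 (.leaf 0x30001) (.leaf 0x0)) (.node 237 (.leaf 0x0) (.node 238 (.leaf 0x0) (.leaf 0x0)))) (.node 241 (.node 240 (.leaf 0x40200000206030007) (.leaf 0x0)) (.node 242 (.leaf 0x0) (.node 243 (.leaf 0x30604020006) (.leaf 0x0))))))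

def argWS_24 : Store := (.node 253 (.node 248 (.node 246 (.node 245 (.leaf 0x0) (.leaf 0x4020000030603060402000a)) (.node 247 (.leaf 0xb080d0a0004) (.leaf 0x0))) (.node 250 (.node 249 (.leaf 0x1030002) (.leaf 0x3060002000402050008)) (.node 251 (.leaf 0x0) (.node 252 (.leaf 0x7070f0c0d0005) (.leaf 0x0))))) (.node 258 (.node 255 (.node 254 (.leaf 0xb090f0e0a0005) (.leaf 0xfd0000fc)) (.node 256 (.leaf 0x0) (.node 257 (.leaf 0x3000002020605030008) (.leaf 0x3030000030602040008)))) (.node 260 (.node 259 (.leaf 0x0) (.leaf 0x0)) (.node 261 (.leaf 0x0) (.node 262 (.leaf 0xc0001) (.leaf 0x0))))))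

def argWS_25 : Store := (.node 244 argWS_23 argWS_24)

def argWS_26 : Store := (.node 272 (.node 267 (.node 265 (.node 264 (.leaf 0x40200000206030007) (.leaf 0x0)) (.node 266 (.leaf 0xa0b0a0003) (.leaf 0x20001))) (.node 269 (.node 268 (.leaf 0x0) (.leaf 0x0)) (.node 270 (.leaf 0x0) (.node 271 (.leaf 0x1040002) (.leaf 0x1020106020005))))) (.node 277 (.node 274 (.node 273 (.leaf 0x0) (.leaf 0xc090e0003)) (.node 275 (.leaf 0x0) (.node 276 (.leaf 0x0) (.leaf 0x0)))) (.node 279 (.node 278 (.leaf 0x30001) (.leaf 0x0)) (.node 280 (.leaf 0x4020000060202060503000a) (.node 281 (.leaf 0x20001) (.leaf 0x0))))))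

def argWS_27 : Store := (.node 291 (.node 286 (.node 284 (.node 283 (.leaf 0x0) (.leaf 0x0)) (.node 285 (.leaf 0xc090f0c0004) (.leaf 0x402000004020202060304000b))) (.node 288 (.node 287 (.leaf 0x0) (.leaf 0xb070d0003)) (.node 289 (.leaf 0x0) (.node 290 (.leaf 0x602000306040006) (.leaf 0x401030102060402060303000b))))) (.node 296 (.node 293 (.node 292 (.leaf 0x0) (.leaf 0x80f0e0a0004)) (.node 294 (.leaf 0x0) (.node 295 (.leaf 0x125) (.leaf 0x0)))) (.node 298 (.node 297 (.leaf 0x202000002060202020603000b) (.leaf 0x500000201030006)) (.node 299 (.leaf 0x0) (.node 300 (.leaf 0x0) (.leaf 0x0))))))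

def argWS_28 : Store := (.node 282 argWS_26 argWS_27)

def argWS_29 : Store := (.node 263 argWS_25 argWS_28)

def argWS_30 : Store := (.node 225 argWS_22 argWS_29)

def argWS_31 : Store := (.node 150 argWS_15 argWS_30)

def argWS_32 : Store := (.node 310 (.node 305 (.node 303 (.node 302 (.leaf 0x80f0c0d0004) (.leaf 0x30604020006)) (.node 304 (.leaf 0x0) (.leaf 0x300000602020603040009))) (.node 307 (.node 306 (.leaf 0x0) (.leaf 0x30604020006)) (.node 308 (.leaf 0x0) (.node 309 (.leaf 0x0) (.leaf 0x0))))) (.node 314 (.node 312 (.node 311 (.leaf 0x40001) (.leaf 0x0)) (.node 313 (.leaf 0xa0b090f0c0d0006) (.leaf 0x301030003))) (.node 316 (.node 315 (.leaf 0x0) (.leaf 0x0)) (.node 317 (.leaf 0x0) (.node 318 (.leaf 0x0) (.leaf 0x6020603030007))))))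

def argWS_33 : Store := (.node 328 (.node 323 (.node 321 (.node 320 (.leaf 0x9080d0a0004) (.leaf 0xb090f0c0a0005)) (.node 322 (.leaf 0x0) (.leaf 0x202000002060202020603000b))) (.node 325 (.node 324 (.leaf 0x1030602020603040008) (.leaf 0x0)) (.node 326 (.leaf 0xb070f0e0004) (.node 327 (.leaf 0x0) (.leaf 0x146000140))))) (.node 333 (.node 330 (.node 329 (.leaf 0x0) (.leaf 0x3000002020605030008)) (.node 331 (.leaf 0x2010604020603030008) (.node 332 (.leaf 0x0) (.leaf 0x0)))) (.node 335 (.node 334 (.leaf 0x0) (.leaf 0x7070f0d0004)) (.node 336 (.leaf 0x0) (.node 337 (.leaf 0x30503060004) (.leaf 0x200000206020402060303000b))))))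

def argWS_34 : Store := (.node 319 argWS_32 argWS_33)

def argWS_35 : Store := (.node 347 (.node 342 (.node 340 (.node 339 (.leaf 0x0) (.leaf 0xa0b0002)) (.node 341 (.leaf 0x0) (.leaf 0x0))) (.node 344 (.node 343 (.leaf 0x50001) (.leaf 0x4000002000202020603000a)) (.node 345 (.leaf 0x0) (.node 346 (.leaf 0x7070c0a0004) (.leaf 0x0))))) (.node 352 (.node 349 (.node 348 (.leaf 0x15a) (.leaf 0x0)) (.node 350 (.leaf 0x602020603050008) (.node 351 (.leaf 0x403000206040006) (.leaf 0x0)))) (.node 354 (.node 353 (.leaf 0x0) (.leaf 0x0)) (.node 355 (.leaf 0x7070a0e0004) (.node 356 (.leaf 0x0) (.leaf 0x0))))))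

def argWS_36 : Store := (.node 366 (.node 361 (.node 359 (.node 358 (.leaf 0x4020000030603050306000a) (.leaf 0x400020002060202020603000b)) (.node 360 (.leaf 0x0) (.leaf 0x0))) (.node 363 (.node 362 (.leaf 0x0) (.leaf 0xb080e0003)) (.node 364 (.leaf 0x0) (.node 365 (.leaf 0x0) (.leaf 0xb090f0e0004))))) (.node 371 (.node 368 (.node 367 (.leaf 0x30001) (.leaf 0x0)) (.node 369 (.leaf 0x0) (.node 370 (.leaf 0x3000002060402060303000a) (.leaf 0x0)))) (.node 373 (.node 372 (.leaf 0xd0001) (.leaf 0x30001)) (.node 374 (.leaf 0x0) (.node 375 (.leaf 0x0) (.leaf 0x0))))))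

def argWS_37 : Store := (.node 357 argWS_35 argWS_36)

def argWS_38 : Store := (.node 338 argWS_34 argWS_37)

def argWS_39 : Store := (.node 385 (.node 380 (.node 378 (.node 377 (.leaf 0x0) (.leaf 0x604020603030006)) (.node 379 (.leaf 0x0) (.leaf 0x0))) (.node 382 (.node 381 (.leaf 0x50001) (.leaf 0xf0e0c0003)) (.node 383 (.leaf 0x0) (.node 384 (.leaf 0x200000206030007) (.leaf 0x1030102060202020603000a))))) (.node 390 (.node 387 (.node 386 (.leaf 0x0) (.leaf 0xc090f0e0a0005)) (.node 388 (.leaf 0x0) (.node 389 (.leaf 0x0) (.leaf 0x30604020006)))) (.node 392 (.node 391 (.leaf 0x2020000060202060303000a) (.leaf 0x0)) (.node 393 (.leaf 0xa0b0a0003) (.node 394 (.leaf 0x0) (.leaf 0x189000183))))))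

def argWS_40 : Store := (.node 404 (.node 399 (.node 397 (.node 396 (.leaf 0x0) (.leaf 0x40001)) (.node 398 (.leaf 0x20000020605030007) (.leaf 0x0))) (.node 401 (.node 400 (.leaf 0x0) (.leaf 0x0)) (.node 402 (.leaf 0x90c0d0003) (.node 403 (.leaf 0x0) (.leaf 0x604020603030006))))) (.node 409 (.node 406 (.node 405 (.leaf 0x0) (.leaf 0xa0001)) (.node 407 (.leaf 0x30001) (.node 408 (.leaf 0x0) (.leaf 0x0)))) (.node 411 (.node 410 (.leaf 0xa0b0f0e0004) (.leaf 0x0)) (.node 412 (.leaf 0x0) (.node 413 (.leaf 0x20001) (.leaf 0x20604020603030009))))))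

def argWS_41 : Store := (.node 395 argWS_39 argWS_40)

def argWS_42 : Store := (.node 423 (.node 418 (.node 416 (.node 415 (.leaf 0x0) (.leaf 0x0)) (.node 417 (.leaf 0x4030000030602050008) (.leaf 0x30001))) (.node 420 (.node 419 (.leaf 0x0) (.leaf 0x0)) (.node 421 (.leaf 0x0) (.node 422 (.leaf 0xb0f0e0c0004) (.leaf 0x0))))) (.node 428 (.node 425 (.node 424 (.leaf 0x0) (.leaf 0x0)) (.node 426 (.leaf 0x20001) (.node 427 (.leaf 0x206020202060305000a) (.leaf 0x0)))) (.node 430 (.node 429 (.leaf 0x0) (.leaf 0x4030000040206030008)) (.node 431 (.leaf 0x300000206020202060305000b) (.node 432 (.leaf 0x0) (.leaf 0x0))))))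

def argWS_43 : Store := (.node 442 (.node 437 (.node 435 (.node 434 (.leaf 0x0) (.leaf 0xa0b090e0a0005)) (.node 436 (.leaf 0xc090002) (.leaf 0x0))) (.node 439 (.node 438 (.leaf 0x0) (.leaf 0x0)) (.node 440 (.leaf 0x0) (.node 441 (.leaf 0x0) (.leaf 0x0))))) (.node 447 (.node 444 (.node 443 (.leaf 0x200000603030006) (.leaf 0x30604020006)) (.node 445 (.leaf 0x0) (.node 446 (.leaf 0x60202020605030007) (.leaf 0x0)))) (.node 449 (.node 448 (.leaf 0x4020000030602040008) (.leaf 0x0)) (.node 450 (.leaf 0x0) (.node 451 (.leaf 0x402000003030603050306000b) (.leaf 0x2010002))))))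

def argWS_44 : Store := (.node 433 argWS_42 argWS_43)

def argWS_45 : Store := (.node 414 argWS_41 argWS_44)

def argWS_46 : Store := (.node 376 argWS_38 argWS_45)

def argWS_47 : Store := (.node 461 (.node 456 (.node 454 (.node 453 (.leaf 0x0) (.leaf 0x0)) (.node 455 (.leaf 0x0) (.leaf 0xc090f0c0004))) (.node 458 (.node 457 (.leaf 0x0) (.leaf 0x30604020006)) (.node 459 (.leaf 0x0) (.node 460 (.leaf 0x300000602020603040009) (.leaf 0x0))))) (.node 465 (.node 463 (.node 462 (.leaf 0x402000004020202060304000b) (.leaf 0x0)) (.node 464 (.leaf 0x306030604020006) (.leaf 0x0))) (.node 467 (.node 466 (.leaf 0x300000202020605030009) (.leaf 0x0)) (.node 468 (.leaf 0x0) (.node 469 (.leaf 0x3030000030402060303000a) (.leaf 0x4020000020402060303000a))))))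

def argWS_48 : Store := (.node 479 (.node 474 (.node 472 (.node 471 (.leaf 0x0) (.leaf 0x7070a0003)) (.node 473 (.leaf 0x3010002) (.leaf 0x0))) (.node 476 (.node 475 (.leaf 0x0) (.leaf 0x306030604020006)) (.node 477 (.leaf 0x0) (.node 478 (.leaf 0x3050004) (.leaf 0x0))))) (.node 484 (.node 481 (.node 480 (.leaf 0x0) (.leaf 0x4020000030603050306000a)) (.node 482 (.leaf 0x402000006020006) (.node 483 (.leaf 0x0) (.leaf 0xb0001)))) (.node 486 (.node 485 (.leaf 0x3010002) (.leaf 0x0)) (.node 487 (.leaf 0x0) (.node 488 (.leaf 0x4020000030603060402000a) (.leaf 0x0))))))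

def argWS_49 : Store := (.node 470 argWS_47 argWS_48)

def argWS_50 : Store := (.node 498 (.node 493 (.node 491 (.node 490 (.leaf 0x0) (.leaf 0x2020000030602040008)) (.node 492 (.leaf 0x201030003) (.leaf 0x0))) (.node 495 (.node 494 (.leaf 0x70e0a0003) (.leaf 0x0)) (.node 496 (.leaf 0x0) (.node 497 (.leaf 0x0) (.leaf 0x0))))) (.node 503 (.node 500 (.node 499 (.leaf 0x10300050306030007) (.leaf 0x0)) (.node 501 (.leaf 0x206020202060305000a) (.node 502 (.leaf 0x0) (.leaf 0x0)))) (.node 505 (.node 504 (.leaf 0x4030000040206030008) (.leaf 0x30001)) (.node 506 (.leaf 0x0) (.node 507 (.leaf 0x0) (.leaf 0x0))))))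

def argWS_51 : Store := (.node 517 (.node 512 (.node 510 (.node 509 (.leaf 0x90e0a0003) (.leaf 0x300000206030604020009)) (.node 511 (.leaf 0x0) (.leaf 0x0))) (.node 514 (.node 513 (.leaf 0x0) (.leaf 0x50002000002060007)) (.node 515 (.leaf 0x30604020006) (.node 516 (.leaf 0x0) (.leaf 0x3000002060402060303000a))))) (.node 522 (.node 519 (.node 518 (.leaf 0x0) (.leaf 0x40200000403040007)) (.node 520 (.leaf 0x0) (.node 521 (.leaf 0x202020605030008) (.leaf 0x0)))) (.node 524 (.node 523 (.leaf 0x0) (.leaf 0x200000303050306030009)) (.node 525 (.leaf 0x300050003) (.node 526 (.leaf 0x0) (.leaf 0x0))))))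

def argWS_52 : Store := (.node 508 argWS_50 argWS_51)

def argWS_53 : Store := (.node 489 argWS_49 argWS_52)

def argWS_54 : Store := (.node 536 (.node 531 (.node 529 (.node 528 (.leaf 0x0) (.leaf 0xa0b0f0e0a0005)) (.node 530 (.leaf 0x0) (.leaf 0x0))) (.node 533 (.node 532 (.leaf 0x10300000303040007) (.leaf 0x3010306030503060009)) (.node 534 (.leaf 0x0) (.node 535 (.leaf 0x0) (.leaf 0x3040002000403040008))))) (.node 541 (.node 538 (.node 537 (.leaf 0x3010002) (.leaf 0x0)) (.node 539 (.leaf 0x0) (.node 540 (.leaf 0x0) (.leaf 0xb09070003)))) (.node 543 (.node 542 (.leaf 0x402000004020202060304000b) (.leaf 0x0)) (.node 544 (.leaf 0x0) (.node 545 (.leaf 0x0) (.leaf 0x0))))))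

def argWS_55 : Store := (.node 555 (.node 550 (.node 548 (.node 547 (.leaf 0x30503060004) (.leaf 0x402000006020006)) (.node 549 (.leaf 0x0) (.leaf 0xc090f0e0c0005))) (.node 552 (.node 551 (.leaf 0x0) (.leaf 0x0)) (.node 553 (.leaf 0x0) (.node 554 (.leaf 0x0) (.leaf 0x0))))) (.node 560 (.node 557 (.node 556 (.leaf 0x200020006020202060503000b) (.leaf 0x301020003)) (.node 558 (.leaf 0x2010200060202020603000a) (.node 559 (.leaf 0x0) (.leaf 0x400020002060202020603000b)))) (.node 562 (.node 561 (.leaf 0x0) (.leaf 0x0)) (.node 563 (.leaf 0x0) (.node 564 (.leaf 0x400000200040202060503000b) (.leaf 0x0))))))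

def argWS_56 : Store := (.node 546 argWS_54 argWS_55)

def argWS_57 : Store := (.node 574 (.node 569 (.node 567 (.node 566 (.leaf 0x500020000020202020603000b) (.leaf 0x0)) (.node 568 (.leaf 0x4030004030005) (.leaf 0x0))) (.node 571 (.node 570 (.leaf 0x0) (.leaf 0x400020003060202060303000b)) (.node 572 (.leaf 0x300040605030007) (.node 573 (.leaf 0x0) (.leaf 0x0))))) (.node 579 (.node 576 (.node 575 (.leaf 0x0) (.leaf 0xc090d0003)) (.node 577 (.leaf 0x0) (.node 578 (.leaf 0x0) (.leaf 0x0)))) (.node 581 (.node 580 (.leaf 0x0) (.leaf 0x1020002060202060304000a)) (.node 582 (.leaf 0x30001) (.node 583 (.leaf 0x6020002060202060305000a) (.leaf 0x0))))))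

def argWS_58 : Store := (.node 593 (.node 588 (.node 586 (.node 585 (.leaf 0x0) (.leaf 0x0)) (.node 587 (.leaf 0x0) (.leaf 0x20001))) (.node 590 (.node 589 (.leaf 0x0) (.leaf 0x2000002)) (.node 591 (.leaf 0x0) (.node 592 (.leaf 0x200020003) (.leaf 0x0))))) (.node 598 (.node 595 (.node 594 (.leaf 0x20002020004) (.leaf 0x0)) (.node 596 (.leaf 0x0) (.node 597 (.leaf 0x4030104030005) (.leaf 0x30106020202020603000a)))) (.node 600 (.node 599 (.leaf 0x0) (.leaf 0x0)) (.node 601 (.leaf 0x0) (.node 602 (.leaf 0x90e0a0003) (.leaf 0x0))))))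

def argWS_59 : Store := (.node 584 argWS_57 argWS_58)

def argWS_60 : Store := (.node 565 argWS_56 argWS_59)

def argWS_61 : Store := (.node 527 argWS_53 argWS_60)

def argWS_62 : Store := (.node 452 argWS_46 argWS_61)

def argWS : Store := (.node 301 argWS_31 argWS_62)

def nodeSrcS : Store := (.leaf 0x20001000100000000)

noncomputable def nodeSrc : Nat → Nat := get16 nodeSrcS

def nodeWS : Store := (.node 2 (.node 1 (.leaf 0x0) (.leaf 0x0)) (.node 3 (.leaf 0x30001) (.node 4 (.leaf 0x301030003) (.leaf 0x30001))))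

def nodeTS : Store := (.leaf 0x10001000100010000)

noncomputable def nodeT : Nat → Nat := get16 nodeTS


end Cfsg.Agent.HSRecog.Cert1
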